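import Groth.Agent.S0108
import Groth.Prelude.Def_Dix
import Groth.Prelude.Def_EtBase
import Groth.Prelude.Def_EtGm
import Mathlib

/-!
Torsion in the etale cohomology of the multiplicative group.
-/

set_option autoImplicit false
set_option backward.isDefEq.respectTransparency false
universe w u

open CategoryTheory CategoryTheory.Limits CategoryTheory.Abelian AlgebraicGeometry Opposite

namespace Groth.Agent.KummerLib

variable {X : Scheme.{u}}

theorem isUnit_natCast (n : ℕ) (hX : Dix.InvertibleOn X n) : IsUnit (n : Γ(X, ⊤)) := by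
  refine X.toRingedSpace.isUnit_of_isUnit_germ ⊤ _ fun x hx => ?_
  change IsUnit (X.presheaf.germ ⊤ x hx (n : Γ(X, ⊤)))
  rw [map_natCast]
  by_contra h
  refine hX x ?_
  rw [← map_natCast (X.residue x).hom]
  exact (IsLocalRing.residue_eq_zero_iff _).mpr h

/-- Multiplication by an integer on sections. -/
theorem nsmul_id_app (F : EtCoh.Ab X) (m : ℕ) (U : X.Etale) (s : F.obj.obj (op U)) :
    (m • 𝟙 F).hom.app (op U) s = m • s := by
  induction m with
  | zero => simp only [zero_smul]; rfl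
  | succ m ih =>
    rw [succ_nsmul, succ_nsmul]
    exact congrArg (· + s) ih

/-- Sheaves killed by a power of a prime are primary torsion. -/
theorem isPrimaryTorsion_of_nsmul_id (F : EtCoh.Ab X) (ℓ k : ℕ) (h : ℓ ^ k • 𝟙 F = 0) :
    Dix.IsPrimaryTorsion ℓ F := fun U s x => by
  refine ⟨U, 𝟙 U, ⟨x, rfl⟩, k, ?_⟩
  refine ((nsmul_id_app F _ U _).symm.trans ?_)
  rw [h]
  rfl

theorem nsmul_id_kernel {A : Type*} [Category A] [Abelian A] {G : A} (m : ℕ) :
    m • 𝟙 (kernel (m • 𝟙 G)) = 0 := by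
  rw [← cancel_mono (kernel.ι (m • 𝟙 G)), Preadditive.nsmul_comp, Category.id_comp, zero_comp]
  exact ((Preadditive.comp_nsmul _ _ _).trans (congrArg (m • ·) (Category.comp_id _))).symm.trans (kernel.condition _)

theorem nsmul_id_cokernel {A : Type*} [Category A] [Abelian A] {G : A} (m : ℕ) :
    m • 𝟙 (cokernel (m • 𝟙 G)) = 0 := by
  rw [← cancel_epi (cokernel.π (m • 𝟙 G)), Preadditive.comp_nsmul, Category.comp_id, comp_zero]
  exact ((Preadditive.nsmul_comp _ _ _).trans (congrArg (m • ·) (Category.id_comp _))).symm.trans (cokernel.condition _)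

section Ext

variable {A : Type*} [Category A] [Abelian A] [HasExt.{w} A] (M : A)

lemma comp_mk₀_nsmul {G : A} {n : ℕ} (x : Ext.{w} M G n) (m : ℕ) :
    x.comp (Ext.mk₀ (m • 𝟙 G)) (add_zero n) = m • x := by
  induction m with
  | zero => rw [zero_smul, zero_smul, Ext.mk₀_zero, Ext.comp_zero]
  | succ m ih => rw [succ_nsmul, succ_nsmul, Ext.mk₀_add, Ext.comp_add, ih, Ext.comp_mk₀_id]

/-- A morphism is injective on cohomology when its kernel and cokernel have no cohomology. -/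
theorem eq_zero_of_comp_eq_zero {G H : A} (f : G ⟶ H) {i : ℕ} (hK : Subsingleton (Ext.{w} M (kernel f) (i + 1)))
    (hC : Subsingleton (Ext.{w} M (cokernel f) i)) (x : Ext.{w} M G (i + 1))
    (hx : x.comp (Ext.mk₀ f) (add_zero _) = 0) : x = 0 := by
  let S₁ : ShortComplex A := ShortComplex.mk (kernel.ι f) (cokernel.π (kernel.ι f)) (cokernel.condition _)
  have h₁ : S₁.ShortExact := { exact := ShortComplex.exact_of_g_is_cokernel _ (cokernelIsCokernel _) }
  let ι := Abelian.factorThruCoimage f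
  have hw : ι ≫ cokernel.π f = 0 := by
    rw [← cancel_epi (Abelian.coimage.π f), ← Category.assoc, Abelian.coimage.fac, cokernel.condition, comp_zero]
  let S₂ : ShortComplex A := ShortComplex.mk ι (cokernel.π f) hw
  have h₂ : S₂.ShortExact := by
    refine { exact := ShortComplex.exact_of_g_is_cokernel _ ?_ }
    refine CokernelCofork.IsColimit.ofπ _ _ (fun g hg => cokernel.desc f g ?_) (fun g hg => cokernel.π_desc _ _ _)
      (fun g hg m hm => by rw [← cancel_epi (cokernel.π f), cokernel.π_desc, hm])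
    rw [← Abelian.coimage.fac f, Category.assoc, hg, comp_zero]
  have hy : x.comp (Ext.mk₀ S₁.g) (add_zero _) = 0 := by
    obtain ⟨c, hc⟩ := Ext.covariant_sequence_exact₁ M h₂ (x.comp (Ext.mk₀ S₁.g) (add_zero _)) (by
      rw [Ext.comp_assoc_of_third_deg_zero, Ext.mk₀_comp_mk₀]
      exact (congrArg (fun g => x.comp (Ext.mk₀ g) (add_zero _)) (Abelian.coimage.fac f)).trans hx) rfl
    rw [← hc, @Subsingleton.elim _ hC c 0, Ext.zero_comp]
  obtain ⟨z, hz⟩ := Ext.covariant_sequence_exact₂ M h₁ x hy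
  rw [← hz, @Subsingleton.elim _ hK z 0, Ext.zero_comp]

/-- The image of the cohomology of the kernel of multiplication. -/
theorem range_kernel {G : A} (m i : ℕ) [Epi (m • 𝟙 G)] (y : Ext.{w} M G i) :
    (∃ x : Ext.{w} M (kernel (m • 𝟙 G)) i, x.comp (Ext.mk₀ (kernel.ι _)) (add_zero i) = y) ↔ m • y = 0 := by
  have hS : (ShortComplex.mk _ _ (kernel.condition (m • 𝟙 G))).ShortExact :=
    { exact := ShortComplex.exact_of_f_is_kernel _ (kernelIsKernel _),
      epi_g := inferInstanceAs (Epi (m • 𝟙 G)) }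
  constructor
  · rintro ⟨x, rfl⟩
    rw [← comp_mk₀_nsmul, Ext.comp_assoc_of_third_deg_zero, Ext.mk₀_comp_mk₀, kernel.condition, Ext.mk₀_zero,
      Ext.comp_zero]
  · intro hy
    exact Ext.covariant_sequence_exact₂ M hS y ((comp_mk₀_nsmul M y m).trans hy)

end Ext

theorem range_H_mu (X : Scheme.{u}) (n : ℕ) (hX : Dix.InvertibleOn X n) (i : ℕ) :
    Set.range ⇑((EtCoh.HF X i).map (EtCoh.muι X n)) =
      {ξ : (EtCoh.HF X i).obj (EtCoh.Gm X) | n • ξ = 0} := by
  haveI : Epi (n • 𝟙 (EtCoh.Gm X)) := Groth.Agent.S0108.result X n (isUnit_natCast n hX)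
  ext ξ
  exact range_kernel _ n i ξ

theorem primaryTorsion_eq_zero (X : Scheme.{u}) (ℓ n : ℕ) (hcd : Dix.CohDimLEAt X ℓ n) :
    (∀ i : ℕ, n + 1 < i → ∀ ξ : EtCoh.H X (EtCoh.Gm X) i, (∃ k : ℕ, ℓ ^ k • ξ = 0) → ξ = 0) ∧
    (Dix.InvertibleOn X ℓ → ∀ i : ℕ, n < i → ∀ ξ : EtCoh.H X (EtCoh.Gm X) i,
      (∃ k : ℕ, ℓ ^ k • ξ = 0) → ξ = 0) := by
  constructor
  · intro i hi ξ ⟨k, hk⟩
    obtain ⟨j, rfl⟩ : ∃ j, i = j + 1 := ⟨i - 1, by omega⟩
    refine eq_zero_of_comp_eq_zero _ (ℓ ^ k • 𝟙 (EtCoh.Gm X))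
      (hcd _ (isPrimaryTorsion_of_nsmul_id _ ℓ k (nsmul_id_kernel _)) (j + 1) (by omega))
      (hcd _ (isPrimaryTorsion_of_nsmul_id _ ℓ k (nsmul_id_cokernel _)) j (by omega)) ξ ?_
    exact (comp_mk₀_nsmul _ ξ _).trans hk
  · intro hℓ i hi ξ ⟨k, hk⟩
    have hu : IsUnit ((ℓ ^ k : ℕ) : Γ(X, ⊤)) := by
      rw [Nat.cast_pow]
      exact (isUnit_natCast ℓ hℓ).pow k
    haveI : Epi (ℓ ^ k • 𝟙 (EtCoh.Gm X)) := Groth.Agent.S0108.result X (ℓ ^ k) hu
    obtain ⟨x, hx⟩ := (range_kernel _ (ℓ ^ k) i ξ).mpr hk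
    haveI := hcd _ (isPrimaryTorsion_of_nsmul_id _ ℓ k (nsmul_id_kernel (G := EtCoh.Gm X) (ℓ ^ k))) i hi
    rw [← hx, Subsingleton.elim x 0, Ext.zero_comp]

end Groth.Agent.KummerLib
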